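import Mathlib

/-!
# `Ext` out of the quotient by a weakly regular sequence

Natural descriptions, by elements, of `Ext (A/(xs)) M i`.
-/

set_option autoImplicit false

open CategoryTheory CategoryTheory.Abelian RingTheory.Sequence

namespace Groth.Agent.DualExt.Regular

universe u

variable {A : Type u} [CommRing A]

/-- `A ⧸ J` as an object. -/
noncomputable abbrev Q (J : Ideal A) : ModuleCat.{u} A := ModuleCat.of A (A ⧸ J)

section step

variable {J' J : Ideal A} (x : A) (hJ : J = J' ⊔ Ideal.span {x}) (hx : IsSMulRegular (A ⧸ J') x)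

include hJ

lemma le : J' ≤ J := hJ ▸ le_sup_left

noncomputable def proj : Q J' ⟶ Q J :=
  ModuleCat.ofHom (Submodule.factor (le x hJ))

lemma smul_proj : (x • 𝟙 (Q J')) ≫ proj x hJ = 0 := by
  ext
  show Submodule.factor (le x hJ) (x • Submodule.Quotient.mk (1 : A)) = 0
  rw [← Submodule.Quotient.mk_smul]
  refine (Submodule.Quotient.mk_eq_zero J).mpr ?_
  rw [smul_eq_mul, mul_one, hJ]
  exact Submodule.mem_sup_right (Ideal.mem_span_singleton_self x)

noncomputable abbrev seq : ShortComplex (ModuleCat.{u} A) :=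
  ShortComplex.mk (x • 𝟙 (Q J')) (proj x hJ) (smul_proj x hJ)

include hx in
lemma seq_shortExact : (seq x hJ).ShortExact := by
  have hexact : (seq x hJ).Exact := by
    rw [ShortComplex.moduleCat_exact_iff]
    intro y hy
    obtain ⟨a, rfl⟩ := Submodule.Quotient.mk_surjective J' y
    have ha : a ∈ J := (Submodule.Quotient.mk_eq_zero J).mp hy
    rw [hJ, Submodule.mem_sup] at ha
    obtain ⟨j, hj, _, hz, rfl⟩ := ha
    obtain ⟨c, rfl⟩ := Ideal.mem_span_singleton'.mp hz
    refine ⟨Submodule.Quotient.mk (p := J') c, ?_⟩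
    show x • Submodule.Quotient.mk (p := J') c = _
    rw [← Submodule.Quotient.mk_smul, Submodule.Quotient.eq]
    simp [mul_comm c x, hj]
  exact { exact := hexact
          mono_f := (ModuleCat.mono_iff_injective _).mpr fun a b h => hx h
          epi_g := (ModuleCat.epi_iff_surjective _).mpr (Submodule.factor_surjective (le x hJ)) }

end step

lemma mk₀_smul_id_comp {X Y : ModuleCat.{u} A} (r : A) {n : ℕ} (ξ : Ext X Y n) :
    (Ext.mk₀ (r • 𝟙 X)).comp ξ (zero_add n) = r • ξ := by
  rw [Ext.mk₀_smul, Ext.smul_comp, Ext.mk₀_id_comp]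

lemma smul_eq_zero_of_killed {X : ModuleCat.{u} A} {M : Type u} [AddCommGroup M] [Module A M]
    {r : A} (hr : ∀ m : M, r • m = 0) {n : ℕ} (ξ : Ext X (ModuleCat.of A M) n) : r • ξ = 0 := by
  rw [Ext.smul_eq_comp_mk₀, show r • 𝟙 (ModuleCat.of A M) = 0 by ext m; exact hr m, Ext.mk₀_zero,
    Ext.comp_zero]

lemma ofList_concat (ys : List A) (x : A) :
    Ideal.ofList (ys ++ [x]) = Ideal.ofList ys ⊔ Ideal.span {x} := by
  rw [Ideal.ofList_append, Ideal.ofList_singleton]

lemma regular_concat {ys : List A} {x : A} (h : IsWeaklyRegular A (ys ++ [x])) :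
    IsWeaklyRegular A ys ∧ IsSMulRegular (A ⧸ Ideal.ofList ys) x := by
  rw [isWeaklyRegular_append_iff, isWeaklyRegular_singleton_iff] at h
  refine ⟨h.1, ((Submodule.quotEquivOfEq _ _ ?_).isSMulRegular_congr x).mp h.2⟩
  rw [smul_eq_mul, Ideal.mul_top]

/-- `Ext (A/(xs)) M i = 0` for `i > length xs` -/
theorem ext_eq_zero (xs : List A) : IsWeaklyRegular A xs → ∀ (M : ModuleCat.{u} A) (i : ℕ),
    xs.length < i → ∀ ξ : Ext (Q (Ideal.ofList xs)) M i, ξ = 0 := by
  induction xs using List.reverseRecOn with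
  | nil =>
    intro _ M i hi ξ
    obtain ⟨i, rfl⟩ := Nat.exists_eq_succ_of_ne_zero (Nat.pos_iff_ne_zero.mp hi)
    have : Module.Projective A (A ⧸ Ideal.ofList ([] : List A)) :=
      .of_equiv (Submodule.quotEquivOfEqBot _ (Ideal.ofList_nil)).symm
    exact Ext.eq_zero_of_projective ξ
  | append_singleton ys x ih =>
    intro h M i hi ξ
    simp only [List.length_append, List.length_singleton] at hi
    obtain ⟨h1, hx⟩ := regular_concat h
    have hJ := ofList_concat ys x
    obtain ⟨η, rfl⟩ := Ext.contravariant_sequence_exact₃ (seq_shortExact x hJ hx) M ξ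
      (ih h1 M i (by omega) _) (n₀ := i - 1) (by omega)
    rw [ih h1 M (i - 1) (by omega) η, Ext.comp_zero]

/-- the map `m ↦ (1 ↦ m)` -/
noncomputable def sp (J : Ideal A) (M : Type u) [AddCommGroup M] [Module A M]
    (hM : J • (⊤ : Submodule A M) = ⊥) (m : M) : Q J ⟶ ModuleCat.of A M :=
  ModuleCat.ofHom (Submodule.liftQ J (LinearMap.toSpanSingleton A M m) fun a ha =>
    LinearMap.mem_ker.mpr <| by
      have : a • m ∈ J • (⊤ : Submodule A M) := Submodule.smul_mem_smul ha trivial
      rw [hM] at this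
      simpa using this)

lemma killed {J : Ideal A} {M : Type u} [AddCommGroup M] [Module A M]
    (hM : J • (⊤ : Submodule A M) = ⊥) {a : A} (ha : a ∈ J) (m : M) : a • m = 0 := by
  have : a • m ∈ J • (⊤ : Submodule A M) := Submodule.smul_mem_smul ha trivial
  rw [hM] at this
  simpa using this

lemma sp_add (J : Ideal A) (M : Type u) [AddCommGroup M] [Module A M]
    (hM : J • (⊤ : Submodule A M) = ⊥) (m m' : M) :
    sp J M hM (m + m') = sp J M hM m + sp J M hM m' := by
  ext
  show (1 : A) • (m + m') = (1 : A) • m + (1 : A) • m'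
  rw [smul_add]

lemma sp_smul (J : Ideal A) (M : Type u) [AddCommGroup M] [Module A M]
    (hM : J • (⊤ : Submodule A M) = ⊥) (r : A) (m : M) :
    sp J M hM (r • m) = r • sp J M hM m := by
  ext
  show (1 : A) • (r • m) = r • ((1 : A) • m)
  rw [one_smul, one_smul]

/-- the comparison map defined by a family of classes -/
noncomputable def comb {J : Ideal A} {i k : ℕ} (e : Fin k → Ext (Q J) (Q J) i) (M : Type u)
    [AddCommGroup M] [Module A M] (hM : J • (⊤ : Submodule A M) = ⊥) :
    (Fin k → M) →ₗ[A] Ext (Q J) (ModuleCat.of A M) i where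
  toFun m := ∑ l, (e l).comp (Ext.mk₀ (sp J M hM (m l))) (add_zero i)
  map_add' m m' := by simp [sp_add, Ext.mk₀_add, Ext.comp_add, Finset.sum_add_distrib]
  map_smul' r m := by simp [sp_smul, Ext.mk₀_smul, Finset.smul_sum]

lemma comb_apply {J : Ideal A} {i k : ℕ} (e : Fin k → Ext (Q J) (Q J) i) (M : Type u)
    [AddCommGroup M] [Module A M] (hM : J • (⊤ : Submodule A M) = ⊥) (m : Fin k → M) :
    comb e M hM m = ∑ l, (e l).comp (Ext.mk₀ (sp J M hM (m l))) (add_zero i) := rfl

/-- degree zero -/
theorem exists_basis_zero (J : Ideal A) :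
    ∃ e : Fin 1 → Ext (Q J) (Q J) 0, ∀ (M : Type u) [AddCommGroup M] [Module A M]
      (hM : J • (⊤ : Submodule A M) = ⊥), Function.Bijective (comb e M hM) := by
  refine ⟨fun _ => Ext.mk₀ (𝟙 _), fun M _ _ hM => ?_⟩
  have hc : ∀ m, comb (fun _ : Fin 1 => Ext.mk₀ (𝟙 (Q J))) M hM m = Ext.mk₀ (sp J M hM (m 0)) := by
    intro m
    rw [comb_apply]
    simp [Ext.mk₀_id_comp]
  refine ⟨fun m m' h => ?_, fun ξ => ?_⟩
  · rw [hc, hc] at h
    have := congrArg (fun f : Q J ⟶ ModuleCat.of A M => f.hom (Submodule.Quotient.mk (1 : A)))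
      ((Ext.mk₀_bijective _ _).1 h)
    funext l
    fin_cases l
    change (1 : A) • m 0 = (1 : A) • m' 0 at this
    simpa using this
  · obtain ⟨f, rfl⟩ := (Ext.mk₀_bijective _ _).2 ξ
    refine ⟨fun _ => f.hom (Submodule.Quotient.mk (1 : A)), ?_⟩
    rw [hc]
    congr 1
    ext
    simp [sp]

/-- `Ext (A/(xs)) M i` is `M ^ choose r i` for `M` killed by `(xs)`, naturally -/
theorem exists_basis (xs : List A) : IsWeaklyRegular A xs → ∀ i : ℕ,
    ∃ e : Fin (xs.length.choose i) → Ext (Q (Ideal.ofList xs)) (Q (Ideal.ofList xs)) i,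
      ∀ (M : Type u) [AddCommGroup M] [Module A M] (hM : Ideal.ofList xs • (⊤ : Submodule A M) = ⊥),
        Function.Bijective (comb e M hM) := by
  induction xs using List.reverseRecOn with
  | nil =>
    intro h i
    cases i with
    | zero => exact exists_basis_zero _
    | succ i =>
      refine ⟨fun l => 0, fun M _ _ hM => ⟨fun m m' _ => funext fun l => l.elim0, fun ξ => ⟨0, ?_⟩⟩⟩
      rw [map_zero, ext_eq_zero [] h _ (i + 1) (by simp) ξ]
  | append_singleton ys x ih =>
    intro h i
    cases i with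
    | zero =>
      rw [Nat.choose_zero_right]
      exact exists_basis_zero _
    | succ i =>
      obtain ⟨h1, hx⟩ := regular_concat h
      have hJ := ofList_concat ys x
      have hS := seq_shortExact x hJ hx
      have hxJ : x ∈ Ideal.ofList (ys ++ [x]) := by
        rw [hJ]; exact Submodule.mem_sup_right (Ideal.mem_span_singleton_self x)
      obtain ⟨e₁, he₁⟩ := ih h1 i
      obtain ⟨e₂, he₂⟩ := ih h1 (i + 1)
      have hQ : Ideal.ofList (ys ++ [x]) • (⊤ : Submodule A (A ⧸ Ideal.ofList (ys ++ [x]))) = ⊥ := by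
        refine eq_bot_iff.mpr (Submodule.smul_le.mpr fun a ha z _ => ?_)
        obtain ⟨z, rfl⟩ := Submodule.Quotient.mk_surjective _ z
        rw [← Submodule.Quotient.mk_smul, Submodule.mem_bot, Submodule.Quotient.mk_eq_zero]
        exact Ideal.mul_mem_right _ _ ha
      have hl : ∀ l, ∃ y : Ext (Q (Ideal.ofList (ys ++ [x]))) (Q (Ideal.ofList (ys ++ [x]))) (i + 1),
          (Ext.mk₀ (proj x hJ)).comp y (zero_add _) = (e₂ l).comp (Ext.mk₀ (proj x hJ)) (add_zero _) := by
        intro l
        refine Ext.contravariant_sequence_exact₂ hS _ _ ?_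
        show (Ext.mk₀ (x • 𝟙 _)).comp _ _ = 0
        rw [mk₀_smul_id_comp]
        exact smul_eq_zero_of_killed (killed hQ hxJ) _
      choose y hy using hl
      have hcard : (ys ++ [x]).length.choose (i + 1) = ys.length.choose i + ys.length.choose (i + 1) := by
        rw [List.length_append, List.length_singleton, Nat.choose_succ_succ]
      rw [hcard]
      refine ⟨Fin.append (fun l => hS.extClass.comp ((e₁ l).comp (Ext.mk₀ (proj x hJ)) (add_zero i))
        (by omega)) y, fun M _ _ hM => ?_⟩
      have hM' : Ideal.ofList ys • (⊤ : Submodule A M) = ⊥ :=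
        eq_bot_iff.mpr ((Submodule.smul_mono_left (le x hJ)).trans hM.le)
      have hcomp : ∀ m : M, proj x hJ ≫ sp _ M hM m = sp _ M hM' m := by
        intro m; ext; rfl
      have hx0 : ∀ {n : ℕ} (ξ : Ext (Q (Ideal.ofList ys)) (ModuleCat.of A M) n), x • ξ = 0 :=
        fun ξ => smul_eq_zero_of_killed (killed hM hxJ) ξ
      let δ := fun η : Ext (Q (Ideal.ofList ys)) (ModuleCat.of A M) i =>
        hS.extClass.comp η (show 1 + i = i + 1 by omega)
      have hprδ : ∀ η, (Ext.mk₀ (proj x hJ)).comp (δ η) (zero_add (i + 1)) = 0 := fun η =>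
        hS.comp_extClass_assoc η _
      have hsplit : ∀ m : Fin (ys.length.choose i + ys.length.choose (i + 1)) → M,
          comb (Fin.append (fun l => hS.extClass.comp ((e₁ l).comp (Ext.mk₀ (proj x hJ)) (add_zero i))
            (by omega)) y) M hM m =
          δ (comb e₁ M hM' (fun l => m (Fin.castAdd _ l))) +
            ∑ l, (y l).comp (Ext.mk₀ (sp _ M hM (m (Fin.natAdd _ l)))) (add_zero _) := by
        intro m
        rw [comb_apply, Fin.sum_univ_add]
        simp only [Fin.append_left, Fin.append_right, δ, comb_apply]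
        congr 1
        rw [Ext.comp_sum]
        refine Finset.sum_congr rfl fun l _ => ?_
        rw [← hcomp, ← Ext.mk₀_comp_mk₀, Ext.comp_assoc_of_third_deg_zero, Ext.comp_assoc_of_third_deg_zero]
      have hpr : ∀ m2 : Fin (ys.length.choose (i + 1)) → M,
          (Ext.mk₀ (proj x hJ)).comp (∑ l, (y l).comp (Ext.mk₀ (sp _ M hM (m2 l))) (add_zero _))
            (zero_add (i + 1)) = comb e₂ M hM' m2 := by
        intro m2
        rw [Ext.comp_sum, comb_apply]
        refine Finset.sum_congr rfl fun l _ => ?_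
        rw [← Ext.comp_assoc_of_third_deg_zero, hy, Ext.comp_assoc_of_third_deg_zero,
          Ext.mk₀_comp_mk₀, hcomp]
      refine ⟨(injective_iff_map_eq_zero _).mpr fun m hm => ?_, fun ξ => ?_⟩
      · rw [hsplit] at hm
        have h2 := congrArg (fun z => (Ext.mk₀ (proj x hJ)).comp z (zero_add (i + 1))) hm
        simp only [Ext.comp_add, hprδ, zero_add, hpr, Ext.comp_zero] at h2
        have hm2 := (injective_iff_map_eq_zero _).mp (he₂ M hM').1 _ h2
        have h3 : δ (comb e₁ M hM' (fun l => m (Fin.castAdd _ l))) = 0 := by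
          rw [Finset.sum_eq_zero, add_zero] at hm
          · exact hm
          · intro l _
            rw [show m (Fin.natAdd _ l) = 0 from congrFun hm2 l, show sp _ M hM (0 : M) = 0 by
              ext; simp [sp], Ext.mk₀_zero, Ext.comp_zero]
        obtain ⟨η, hη⟩ := Ext.contravariant_sequence_exact₁ hS _ _ _ h3
        have h4 : comb e₁ M hM' (fun l => m (Fin.castAdd _ l)) = 0 := by
          rw [← hη]
          exact (mk₀_smul_id_comp x η).trans (hx0 η)
        have hm1 := (injective_iff_map_eq_zero _).mp (he₁ M hM').1 _ h4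
        funext l
        refine Fin.addCases (fun a => congrFun hm1 a) (fun a => congrFun hm2 a) l
      · obtain ⟨m2, hm2⟩ := (he₂ M hM').2 ((Ext.mk₀ (proj x hJ)).comp ξ (zero_add _))
        obtain ⟨η, hη⟩ := Ext.contravariant_sequence_exact₃ hS _
          (ξ - ∑ l, (y l).comp (Ext.mk₀ (sp _ M hM (m2 l))) (add_zero _)) (by
            show (Ext.mk₀ (proj x hJ)).comp _ _ = 0
            rw [sub_eq_add_neg, Ext.comp_add, Ext.comp_neg, hpr, hm2, add_neg_cancel])
          (n₀ := i) (by omega)
        obtain ⟨m1, hm1⟩ := (he₁ M hM').2 η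
        refine ⟨Fin.append m1 m2, ?_⟩
        rw [hsplit]
        simp only [Fin.append_left, Fin.append_right, δ]
        rw [show comb e₁ M hM' (fun l => m1 l) = η from hm1]
        exact eq_sub_iff_add_eq.mp hη

/-- the top degree, for an arbitrary module -/
theorem exists_top (xs : List A) : IsWeaklyRegular A xs →
    ∃ e : Ext (Q (Ideal.ofList xs)) (ModuleCat.of A A) xs.length,
      ∀ (M : Type u) [AddCommGroup M] [Module A M],
        Function.Surjective (fun m : M => e.comp (Ext.mk₀ (ModuleCat.ofHom (LinearMap.toSpanSingleton A M m))) (add_zero _)) ∧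
        ∀ m : M, e.comp (Ext.mk₀ (ModuleCat.ofHom (LinearMap.toSpanSingleton A M m))) (add_zero _) = 0 ↔
          m ∈ Ideal.ofList xs • (⊤ : Submodule A M) := by
  induction xs using List.reverseRecOn with
  | nil =>
    intro _
    let q : (A ⧸ Ideal.ofList ([] : List A)) ≃ₗ[A] A := Submodule.quotEquivOfEqBot _ (Ideal.ofList_nil)
    refine ⟨Ext.mk₀ (ModuleCat.ofHom q.toLinearMap), fun M _ _ => ⟨fun ξ => ?_, fun m => ?_⟩⟩
    · obtain ⟨f, rfl⟩ := (Ext.mk₀_bijective _ _).2 ξ
      refine ⟨f.hom (q.symm 1), ?_⟩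
      simp only [Ext.mk₀_comp_mk₀]
      congr 1
      ext
      obtain ⟨z, hz⟩ : ∃ z, z = q (Submodule.Quotient.mk (1 : A)) := ⟨_, rfl⟩
      have hq : q (Submodule.Quotient.mk (1 : A)) = 1 := rfl
      show q (Submodule.Quotient.mk (1 : A)) • f.hom (q.symm 1) = _
      rw [hq, one_smul]
      congr 1
    · rw [Ext.mk₀_comp_mk₀, show Ideal.ofList ([] : List A) • (⊤ : Submodule A M) = ⊥ by simp,
        Submodule.mem_bot]
      refine ⟨fun h => ?_, fun h => ?_⟩
      · have h' := (Ext.mk₀_bijective _ _).1 (h.trans (Eq.symm (Ext.mk₀_zero _ _)))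
        have := congrArg (fun f : Q (Ideal.ofList ([] : List A)) ⟶ ModuleCat.of A M =>
          f.hom (Submodule.Quotient.mk (1 : A))) h'
        have hq : q (Submodule.Quotient.mk (1 : A)) = 1 := rfl
        change q (Submodule.Quotient.mk (1 : A)) • m = 0 at this
        rwa [hq, one_smul] at this
      · subst h
        rw [show (ModuleCat.ofHom q.toLinearMap ≫ ModuleCat.ofHom (LinearMap.toSpanSingleton A M 0)) = 0 by
          ext; simp, Ext.mk₀_zero]
  | append_singleton ys x ih =>
    intro h
    obtain ⟨h1, hx⟩ := regular_concat h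
    have hJ := ofList_concat ys x
    have hS := seq_shortExact x hJ hx
    obtain ⟨e, he⟩ := ih h1
    rw [show (ys ++ [x]).length = ys.length + 1 by simp]
    refine ⟨hS.extClass.comp e (by omega), fun M _ _ => ⟨fun ξ => ?_, fun m => ?_⟩⟩
    · obtain ⟨η, hη⟩ := Ext.contravariant_sequence_exact₃ hS _ ξ
        (ext_eq_zero ys h1 _ _ (by omega) _) (n₀ := ys.length) (by omega)
      obtain ⟨m, hm⟩ := (he M).1 η
      refine ⟨m, ?_⟩
      simp only at hm ⊢
      rw [Ext.comp_assoc_of_third_deg_zero, hm, hη]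
    · rw [Ext.comp_assoc_of_third_deg_zero]
      have hsplit : Ideal.ofList (ys ++ [x]) • (⊤ : Submodule A M) =
          Ideal.ofList ys • ⊤ ⊔ Ideal.span {x} • ⊤ := by rw [hJ, Submodule.sup_smul]
      rw [hsplit]
      constructor
      · intro h0
        obtain ⟨η, hη⟩ := Ext.contravariant_sequence_exact₁ hS _ _ _ h0
        have hη' : x • η = e.comp (Ext.mk₀ (ModuleCat.ofHom (LinearMap.toSpanSingleton A M m))) (add_zero _) :=
          (mk₀_smul_id_comp x η).symm.trans hη
        obtain ⟨m', hm'⟩ := (he M).1 η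
        simp only at hm'
        have hd : m - x • m' ∈ Ideal.ofList ys • (⊤ : Submodule A M) := by
          rw [← (he M).2]
          rw [show ModuleCat.ofHom (LinearMap.toSpanSingleton A M (m - x • m')) =
              ModuleCat.ofHom (LinearMap.toSpanSingleton A M m) +
                (-x) • ModuleCat.ofHom (LinearMap.toSpanSingleton A M m') by
            ext; simp [sub_eq_add_neg]]
          rw [Ext.mk₀_add, Ext.comp_add, Ext.mk₀_smul, Ext.comp_smul, hm', ← hη', neg_smul, add_neg_cancel]
        rw [show m = (m - x • m') + x • m' by abel]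
        exact Submodule.add_mem_sup hd (Submodule.smul_mem_smul (Ideal.mem_span_singleton_self x) trivial)
      · intro hm
        obtain ⟨a, ha, b, hb, rfl⟩ := Submodule.mem_sup.mp hm
        rw [Submodule.ideal_span_singleton_smul] at hb
        obtain ⟨c, -, rfl⟩ := hb
        have ha' := ((he M).2 a).mpr ha
        show hS.extClass.comp (e.comp (Ext.mk₀ (ModuleCat.ofHom (LinearMap.toSpanSingleton A M (a + x • c)))) _) _ = 0
        rw [show ModuleCat.ofHom (LinearMap.toSpanSingleton A M (a + x • c)) =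
            ModuleCat.ofHom (LinearMap.toSpanSingleton A M a) +
              x • ModuleCat.ofHom (LinearMap.toSpanSingleton A M c) by ext; simp,
          Ext.mk₀_add, Ext.comp_add, ha', zero_add, Ext.mk₀_smul, Ext.comp_smul,
          ← mk₀_smul_id_comp, ← Ext.comp_assoc_of_second_deg_zero,
          show hS.extClass.comp (Ext.mk₀ (x • 𝟙 (Q (Ideal.ofList ys)))) (add_zero 1) = 0 from hS.extClass_comp,
          Ext.zero_comp]

end Groth.Agent.DualExt.Regular
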