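import Groth.Agent.RegularLocal.Basic
import Groth.Agent.CMLocal.SOP
import Groth.Agent.DualExt.Regular

/-! `Ext^i(M, A) = 0` for `i + dim M < dim A`, `A` a regular local ring. -/

set_option autoImplicit false

open CategoryTheory CategoryTheory.Abelian IsLocalRing

namespace Groth.Agent.DualExt.Vanish

universe u

variable (A : Type u) [CommRing A] [IsRegularLocalRing A]

/-- vanishing below codimension, as a property of a module -/
def Van (n d : ℕ) (M : ModuleCat.{u} A) : Prop := ∀ i, i + d < n → ∀ ξ : Ext M (ModuleCat.of A A) i, ξ = 0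

theorem van (n : ℕ) (hn : ringKrullDim A = n) : ∀ (d : ℕ) (M : Type u) [AddCommGroup M] [Module A M]
    [Module.Finite A M], Module.supportDim A M ≤ (d : WithBot ℕ∞) → Van A n d (ModuleCat.of A M) := by
  have hdepth : Groth.Agent.CMLocal.SOP.DepthGE (ModuleCat.of A A) n := by
    obtain ⟨l, hlen, hl⟩ := Groth.Agent.RegularLocal.Basic.exists_list_of_fg
      (IsNoetherian.noetherian (maximalIdeal A))
    have hreg := Groth.Agent.RegularLocal.Basic.isRegular_of_generators l hl (by omega)
    have hsf : ((maximalIdeal A).spanFinrank : WithBot ℕ∞) = n := by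
      rw [← hn]; exact IsRegularLocalRing.spanFinrank_maximalIdeal
    have hln : l.length = n := by
      have h1 : (maximalIdeal A).spanFinrank = n := by exact_mod_cast hsf
      have h2 := Groth.Agent.RegularLocal.Basic.spanFinrank_ofList_le l
      rw [hl] at h2
      omega
    rw [← hln]
    exact Groth.Agent.CMLocal.SOP.depthGE_of_list l _ hreg.toIsWeaklyRegular fun r hr => by
      rw [← hl]; exact Ideal.subset_span hr
  intro d
  induction d using Nat.strong_induction_on with
  | _ d ihd =>
    intro M
    intros _ _ _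
    have key : Module.supportDim A M ≤ (d : WithBot ℕ∞) → Van A n d (ModuleCat.of A M) := by
      refine IsNoetherianRing.induction_on_isQuotientEquivQuotientPrime A
        (motive := fun N _ _ _ => Module.supportDim A N ≤ (d : WithBot ℕ∞) → Van A n d (ModuleCat.of A N))
        (inferInstance : Module.Finite A M) ?_ ?_ ?_
      · intro N _ _ _ _ _ i _ ξ
        rw [← Ext.mk₀_id_comp ξ, show 𝟙 (ModuleCat.of A N) = 0 by ext z; exact Subsingleton.elim _ _,
          Ext.mk₀_zero, Ext.zero_comp]
      · intro N _ _ _ q e hd i hi ξ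
        suffices h : ∀ η : Ext (Regular.Q q.asIdeal) (ModuleCat.of A A) i, η = 0 by
          rw [← Ext.mk₀_id_comp ξ, ← e.toModuleIso.hom_inv_id, ← Ext.mk₀_comp_mk₀,
            Ext.comp_assoc_of_second_deg_zero, h ((Ext.mk₀ e.toModuleIso.inv).comp ξ (zero_add i)),
            Ext.comp_zero]
        by_cases hq : q.asIdeal = maximalIdeal A
        · rw [hq]
          exact fun η => @Subsingleton.elim _ (hdepth i (by omega)) η 0
        obtain ⟨x, hxm, hxq⟩ : ∃ x ∈ maximalIdeal A, x ∉ q.asIdeal := by
          by_contra h
          push Not at h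
          exact hq ((maximalIdeal.isMaximal A).eq_of_le q.2.ne_top h).symm
        let M0 := A ⧸ q.asIdeal
        have hreg : IsSMulRegular M0 x := by
          intro a b hab
          obtain ⟨a, rfl⟩ := Submodule.Quotient.mk_surjective _ a
          obtain ⟨b, rfl⟩ := Submodule.Quotient.mk_surjective _ b
          change Submodule.Quotient.mk (x • a) = Submodule.Quotient.mk (x • b) at hab
          rw [Submodule.Quotient.eq] at hab ⊢
          rw [← smul_sub, smul_eq_mul] at hab
          exact (q.2.mem_or_mem hab).resolve_left hxq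
        haveI : Nontrivial M0 := Ideal.Quotient.nontrivial_iff.mpr q.2.ne_top
        have hdM : Module.supportDim A M0 ≤ (d : WithBot ℕ∞) :=
          (Module.supportDim_eq_of_equiv e).symm.le.trans hd
        have hsucc := Module.supportDim_quotSMulTop_succ_eq_supportDim hreg hxm
        haveI : Nontrivial (QuotSMulTop x M0) := nontrivial_quotSMulTop_of_mem_maximalIdeal _ hxm
        obtain ⟨k, hk⟩ : ∃ k : ℕ, d = k + 1 ∧ Module.supportDim A (QuotSMulTop x M0) ≤ (k : WithBot ℕ∞) := by
          have h0 : Module.supportDim A (QuotSMulTop x M0) ≠ ⊥ := fun h =>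
            not_subsingleton _ ((Module.supportDim_eq_bot_iff_subsingleton A _).mp h)
          obtain ⟨k', hk'⟩ := WithBot.ne_bot_iff_exists.mp h0
          rw [← hsucc, ← hk'] at hdM
          rw [show ((k' : WithBot ℕ∞) + 1) = ((k' + 1 : ℕ∞) : WithBot ℕ∞) from rfl,
            show ((d : WithBot ℕ∞)) = ((d : ℕ∞) : WithBot ℕ∞) from rfl, WithBot.coe_le_coe] at hdM
          induction k' using ENat.recTopCoe with
          | top => simp at hdM
          | coe k =>
            norm_cast at hdM
            exact ⟨d - 1, by omega, hk'.symm.le.trans (WithBot.coe_le_coe.mpr (Nat.cast_le.mpr (show k ≤ d - 1 by omega)))⟩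
        obtain ⟨rfl, hk⟩ := hk
        intro η
        have hS : ((ModuleCat.of A M0).smulShortComplex x).ShortExact := hreg.smulShortComplex_shortExact
        have hsurj : ∀ η : Ext (ModuleCat.of A M0) (ModuleCat.of A A) i, ∃ η', x • η' = η := by
          intro η
          obtain ⟨η', hη'⟩ := Ext.contravariant_sequence_exact₁ hS _ η (n₁ := i + 1) (by omega)
            (ihd k (by omega) (QuotSMulTop x M0) hk (i + 1) (by omega) _)
          exact ⟨η', (Regular.mk₀_smul_id_comp x η').symm.trans hη'⟩
        haveI : Module.Finite A M0 := inferInstance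
        have hnak : (⊤ : Submodule A (Ext (ModuleCat.of A M0) (ModuleCat.of A A) i)) = ⊥ :=
          Submodule.eq_bot_of_le_smul_of_le_jacobson_bot (maximalIdeal A) _ Module.Finite.fg_top
            (fun z _ => by
              obtain ⟨z', rfl⟩ := hsurj z
              exact Submodule.smul_mem_smul hxm trivial)
            (maximalIdeal_le_jacobson _)
        exact (Submodule.mem_bot A).mp (hnak ▸ (Submodule.mem_top : η ∈ ⊤))
      · intro N₁ _ _ _ N₂ _ _ _ N₃ _ _ _ f g hf hg hex h1 h3 hd i hi ξ
        let S : ShortComplex (ModuleCat.{u} A) := ShortComplex.mk (ModuleCat.ofHom f) (ModuleCat.ofHom g)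
          (by ext z; exact hex.apply_apply_eq_zero z)
        have hS : S.ShortExact :=
          { exact := (ShortComplex.moduleCat_exact_iff_ker_sub_range _).mpr fun z hz => (hex z).mp hz
            mono_f := (ModuleCat.mono_iff_injective _).mpr hf
            epi_g := (ModuleCat.epi_iff_surjective _).mpr hg }
        obtain ⟨η, hη⟩ := Ext.contravariant_sequence_exact₂ hS _ ξ
          (h1 ((Module.supportDim_le_of_injective f hf).trans hd) i hi _)
        rw [← hη, h3 ((Module.supportDim_le_of_surjective g hg).trans hd) i hi η, Ext.comp_zero]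
    exact key

/-- the form of the statement -/
theorem ext_eq_zero (M : Type u) [AddCommGroup M] [Module A M] [Module.Finite A M] (p : ℕ)
    (hdim : Module.supportDim A M + p ≤ ringKrullDim A) (i : ℕ) (hi : i < p)
    (ξ : Ext (ModuleCat.of A M) (ModuleCat.of A A) i) : ξ = 0 := by
  obtain ⟨n, hn⟩ : ∃ n : ℕ, ringKrullDim A = n := ⟨_, IsRegularLocalRing.spanFinrank_maximalIdeal.symm⟩
  by_cases hM : Module.supportDim A M = ⊥
  · haveI := (Module.supportDim_eq_bot_iff_subsingleton A M).mp hM
    rw [← Ext.mk₀_id_comp ξ, show 𝟙 (ModuleCat.of A M) = 0 by ext z; exact Subsingleton.elim _ _,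
      Ext.mk₀_zero, Ext.zero_comp]
  · obtain ⟨k', hk'⟩ := WithBot.ne_bot_iff_exists.mp hM
    rw [hn, ← hk'] at hdim
    induction k' using ENat.recTopCoe with
    | top =>
      change ((⊤ + (p : ℕ∞) : ℕ∞) : WithBot ℕ∞) ≤ ((n : ℕ∞) : WithBot ℕ∞) at hdim
      rw [WithBot.coe_le_coe, top_add, top_le_iff] at hdim
      exact absurd hdim (ENat.natCast_ne_top n)
    | coe k =>
      have hkn : k + p ≤ n := by exact_mod_cast hdim
      exact van A n hn k M hk'.symm.le i (by omega) ξ

end Groth.Agent.DualExt.Vanish
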